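import Groth.Agent.AVTate.Rational
import Groth.Agent.S15651
import Groth.Agent.S11684
import Mathlib.RingTheory.SimpleModule.Basic
import Mathlib.FieldTheory.Minpoly.Field
import Mathlib.FieldTheory.Perfect

/-!
# Semisimplicity and the commutant of the Galois action (Tate)
-/

set_option autoImplicit false
set_option linter.style.haveILetI false
set_option linter.unusedSectionVars false
set_option backward.isDefEq.respectTransparency false
set_option backward.isDefEq.respectTransparency.types false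
set_option synthInstance.maxHeartbeats 400000
set_option maxHeartbeats 1000000

universe u

noncomputable section

open CategoryTheory CategoryTheory.Limits AlgebraicGeometry MonoidalCategory CartesianMonoidalCategory
open scoped MonObj TensorProduct

attribute [-instance] CategoryTheory.catToReflQuiver

namespace Groth.Agent.AVTate

/-- semisimple rings are von Neumann regular -/
theorem exists_regular_of_semisimple {R : Type*} [Ring R] [IsSemisimpleRing R] (u : R) : ∃ r, u * r * u = u := by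
  obtain ⟨e, he, hI⟩ := IsSemisimpleRing.ideal_eq_span_idempotent (Ideal.span {u})
  obtain ⟨r, hr⟩ := Ideal.mem_span_singleton'.1 (hI.ge (Ideal.mem_span_singleton_self e))
  obtain ⟨s, hs⟩ := Ideal.mem_span_singleton'.1 (hI.le (Ideal.mem_span_singleton_self u))
  refine ⟨r, ?_⟩
  rw [_root_.mul_assoc, hr, ← hs, _root_.mul_assoc, he.eq]

/-- the centre of a finite semisimple algebra over a perfect field is separable -/
theorem isSeparable_center (K : Type*) [Field K] [PerfectField K] (R : Type*) [Ring R] [Algebra K R]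
    [Module.Finite K R] [IsSemisimpleRing R] : Algebra.IsSeparable K (Subalgebra.center K R) := by
  haveI : Module.Finite K (Subalgebra.center K R) :=
    inferInstanceAs (Module.Finite K (Subalgebra.toSubmodule (Subalgebra.center K R)))
  haveI : IsReduced (Subalgebra.center K R) := by
    refine isReduced_iff_pow_one_lt 2 one_lt_two |>.2 fun z hz => ?_
    obtain ⟨r, hr⟩ := exists_regular_of_semisimple (z : R)
    refine Subtype.ext ?_
    have h0 : (z : R) * z = 0 := by rw [← sq]; exact congrArg Subtype.val hz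
    have hc : r * (z : R) = z * r := Subalgebra.mem_center_iff.1 z.2 r
    show (z : R) = 0
    rw [← hr, _root_.mul_assoc, hc, ← _root_.mul_assoc, h0, zero_mul]
  refine ⟨fun z => PerfectField.separable_iff_squarefree.2 ?_⟩
  exact (minpoly.isRadical K z).squarefree (minpoly.ne_zero (Algebra.IsIntegral.isIntegral z))

variable {l : ℕ} [Fact l.Prime] {k Ω : Type u} [Field k] [Field Ω] [Algebra k Ω]

/-- `T_l` after extending scalars -/
abbrev Vt (l : ℕ) [Fact l.Prime] (Ω : Type u) [Field Ω] [Algebra k Ω] (A : Over (Spec (CommRingCat.of k)))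
    [GrpObj A] [IsCommMonObj A] : Type u := ℚ_[l] ⊗[ℤ_[l]] AbDual.TateMod A l (SGA7.pt (K := k) Ω)

/-- the action of homomorphisms on the rational Tate modules -/
abbrev Vmap {A B : Over (Spec (CommRingCat.of k))} [GrpObj A] [IsCommMonObj A] [GrpObj B] [IsCommMonObj B]
    (f : A ⟶ B) [IsMonHom f] : Vt l Ω A →ₗ[ℚ_[l]] Vt l Ω B :=
  (AbDual.tateMapₗ (l := l) (T := SGA7.pt (K := k) Ω) f).baseChange ℚ_[l]

/-- the Galois action on the rational Tate module -/
abbrev Vgal (A : Over (Spec (CommRingCat.of k))) [GrpObj A] [IsCommMonObj A] (τ : Ω ≃ₐ[k] Ω) :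
    Module.End ℚ_[l] (Vt l Ω A) := (galT A l τ).baseChange ℚ_[l]

section

variable {A B C : Over (Spec (CommRingCat.of k))} [GrpObj A] [IsCommMonObj A] [GrpObj B] [IsCommMonObj B]
  [GrpObj C] [IsCommMonObj C]

theorem Vmap_comp (f : A ⟶ B) [IsMonHom f] (g : B ⟶ C) [IsMonHom g] :
    Vmap (l := l) (Ω := Ω) (f ≫ g) = Vmap g ∘ₗ Vmap f := by
  rw [Vmap, tateMapₗ_comp, LinearMap.baseChange_comp]

theorem Vmap_natural (τ : Ω ≃ₐ[k] Ω) (f : A ⟶ B) [IsMonHom f] :
    Vmap (l := l) f ∘ₗ Vgal A τ = Vgal B τ ∘ₗ Vmap f := by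
  rw [← LinearMap.baseChange_comp, galT_natural, LinearMap.baseChange_comp]

theorem Vmap_mul (f g : A ⟶ B) [IsMonHom f] [IsMonHom g] [IsMonHom (f * g)] :
    Vmap (l := l) (Ω := Ω) (f * g) = Vmap f + Vmap g := by
  have h : AbDual.tateMapₗ (l := l) (T := SGA7.pt (K := k) Ω) (f * g) = AbDual.tateMapₗ f + AbDual.tateMapₗ g :=
    LinearMap.ext fun x => AbDual.TateMod.ext fun n => congrArg Additive.ofMul (MonObj.comp_mul _ f g)
  rw [Vmap, h, LinearMap.baseChange_add]

theorem Vmap_one [IsMonHom (1 : A ⟶ B)] : Vmap (l := l) (Ω := Ω) (1 : A ⟶ B) = 0 := by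
  have h : AbDual.tateMapₗ (l := l) (T := SGA7.pt (K := k) Ω) (1 : A ⟶ B) = 0 :=
    LinearMap.ext fun x => AbDual.TateMod.ext fun n => congrArg Additive.ofMul (MonObj.comp_one _)
  rw [Vmap, h, LinearMap.baseChange_zero]

theorem Vmap_id : Vmap (l := l) (Ω := Ω) (𝟙 A) = LinearMap.id := by
  have h : AbDual.tateMapₗ (l := l) (T := SGA7.pt (K := k) Ω) (𝟙 A) = LinearMap.id :=
    LinearMap.ext fun x => AbDual.TateMod.ext fun n => congrArg Additive.ofMul (Category.comp_id _)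
  rw [Vmap, h, LinearMap.baseChange_id]

theorem Vmap_congr {f g : A ⟶ B} [IsMonHom f] [IsMonHom g] (h : f = g) : Vmap (l := l) (Ω := Ω) f = Vmap g := by
  subst h
  rfl

end

variable (A : Over (Spec (CommRingCat.of k))) [GrpObj A] [IsCommMonObj A] [IsProper A.hom] [GeometricallyIntegral A.hom]

theorem endSpan_commute {e : Module.End ℚ_[l] (Vt l Ω A)} (he : e ∈ endSpan l Ω A) (τ : Ω ≃ₐ[k] Ω) :
    e ∘ₗ Vgal A τ = Vgal A τ ∘ₗ e := by
  induction he using Submodule.span_induction with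
  | mem x hx =>
    obtain ⟨f, hf, rfl⟩ := hx
    exact Vmap_natural τ f
  | zero => rw [LinearMap.zero_comp, LinearMap.comp_zero]
  | add x y _ _ hx hy => rw [LinearMap.add_comp, LinearMap.comp_add, hx, hy]
  | smul a x _ hx => rw [LinearMap.smul_comp, LinearMap.comp_smul, hx]

/-- the span of the endomorphisms is a semisimple algebra -/
theorem exists_semisimple_algebra :
    ∃ E : Subalgebra ℚ_[l] (Module.End ℚ_[l] (Vt l Ω A)),
      IsSemisimpleRing E ∧ ∀ e, e ∈ E ↔ e ∈ endSpan l Ω A := by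
  haveI : Module.Finite ℤ (EndAV.End A) := (AVHomLib.hom_free (A := A) (B := A)).1
  haveI : Module.Finite ℚ (EndAV.End0 A) := Module.Finite.base_change ℤ ℚ (EndAV.End A)
  haveI : IsSemisimpleRing (EndAV.End0 A) := S15651.result k A
  haveI := isSeparable_center ℚ (EndAV.End0 A)
  haveI : IsSemisimpleRing (ℚ_[l] ⊗[ℚ] EndAV.End0 A) := S11684.result ℚ (EndAV.End0 A) ℚ_[l]
  let Φ₀ : EndAV.End A →+* Module.End ℚ_[l] (Vt l Ω A) :=
    (Module.End.baseChangeHom ℤ_[l] ℚ_[l] _).toRingHom.comp (EndAV.End.tateRep l (SGA7.pt (K := k) Ω))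
  let Φ₁ : EndAV.End0 A →ₐ[ℚ] Module.End ℚ_[l] (Vt l Ω A) :=
    Algebra.TensorProduct.lift (Algebra.ofId ℚ _)
      (AlgHom.mk Φ₀ fun n => congr($(RingHom.ext_int (Φ₀.comp (algebraMap ℤ _)) (algebraMap ℤ _)) n))
      fun _ _ => Algebra.commutes _ _
  let Φ : ℚ_[l] ⊗[ℚ] EndAV.End0 A →ₐ[ℚ_[l]] Module.End ℚ_[l] (Vt l Ω A) :=
    Algebra.TensorProduct.lift (Algebra.ofId ℚ_[l] _) Φ₁ fun _ _ => Algebra.commutes _ _
  have hΦ : ∀ (a : ℚ_[l]) (q : ℚ) (f : EndAV.End A), Φ (a ⊗ₜ (q ⊗ₜ f)) = (a * (q : ℚ_[l])) • Φ₀ f := fun a q f => by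
    show algebraMap ℚ_[l] _ a * (algebraMap ℚ _ q * Φ₀ f) = _
    rw [← _root_.mul_assoc, IsScalarTower.algebraMap_apply ℚ ℚ_[l] (Module.End ℚ_[l] (Vt l Ω A)), ← map_mul,
      ← Algebra.smul_def, eq_ratCast]
  have hsurj : Function.Surjective Φ.rangeRestrict.toRingHom := Φ.rangeRestrict_surjective
  refine ⟨Φ.range, RingHom.isSemisimpleRing_of_surjective (R := ℚ_[l] ⊗[ℚ] EndAV.End0 A) (S := Φ.range)
    Φ.rangeRestrict.toRingHom hsurj, fun e => ⟨?_, fun he => ?_⟩⟩
  · rintro ⟨x, rfl⟩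
    show Φ x ∈ endSpan l Ω A
    induction x using TensorProduct.induction_on with
    | zero => rw [map_zero]; exact zero_mem _
    | add x y hx hy => rw [map_add]; exact add_mem hx hy
    | tmul a z =>
      induction z using TensorProduct.induction_on with
      | zero => rw [TensorProduct.tmul_zero, map_zero]; exact zero_mem _
      | add x y hx hy => rw [TensorProduct.tmul_add, map_add]; exact add_mem hx hy
      | tmul q f =>
        rw [hΦ]
        exact Submodule.smul_mem _ _ (Submodule.subset_span ⟨f.toHom, inferInstance, rfl⟩)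
  · induction he using Submodule.span_induction with
    | mem x hx =>
      obtain ⟨f, hf, rfl⟩ := hx
      exact ⟨1 ⊗ₜ (1 ⊗ₜ EndAV.End.of f), by
        show Φ _ = _
        rw [hΦ, Rat.cast_one, _root_.mul_one, one_smul]
        rfl⟩
    | zero => exact zero_mem _
    | add x y _ _ hx hy => exact add_mem hx hy
    | smul a x _ hx => exact Subalgebra.smul_mem _ hx a

variable [IsAlgClosed Ω] [Algebra.IsAlgebraic k Ω] [Normal k Ω]

/-- Tate: semisimplicity and the double commutant, from the images -/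
theorem semisimple_and_commutant_of_range (hl : (l : k) ≠ 0)
    (hR : ∀ (Z : Over (Spec (CommRingCat.of k))) [GrpObj Z] [IsCommMonObj Z] [IsProper Z.hom] [GeometricallyIntegral Z.hom]
      (W : Submodule ℚ_[l] (Vt l Ω Z)), (∀ τ : Ω ≃ₐ[k] Ω, W.map (Vgal Z τ) ≤ W) →
        ∃ u ∈ endSpan l Ω Z, LinearMap.range u = W)
    [Module.Finite ℤ_[l] (AbDual.TateMod A l (SGA7.pt (K := k) Ω))] :
    (∀ W : Submodule ℚ_[l] (Vt l Ω A), (∀ τ : Ω ≃ₐ[k] Ω, W.map (Vgal A τ) ≤ W) →
        ∃ W' : Submodule ℚ_[l] (Vt l Ω A), IsCompl W W' ∧ ∀ τ : Ω ≃ₐ[k] Ω, W'.map (Vgal A τ) ≤ W') ∧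
      ∀ φ : Module.End ℚ_[l] (Vt l Ω A), (∀ τ : Ω ≃ₐ[k] Ω, φ ∘ₗ Vgal A τ = Vgal A τ ∘ₗ φ) →
        φ ∈ endSpan l Ω A := by
  obtain ⟨E, hE, hmem⟩ := exists_semisimple_algebra (l := l) (Ω := Ω) A
  refine ⟨fun W hW => ?_, fun φ hφ => ?_⟩
  · obtain ⟨u, hu, huW⟩ := hR A W hW
    obtain ⟨⟨r, hr⟩, hur⟩ := exists_regular_of_semisimple (⟨u, (hmem u).2 hu⟩ : E)
    replace hur : u * r * u = u := congrArg Subtype.val hur
    have hp : IsIdempotentElem (u * r) := by
      show u * r * (u * r) = u * r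
      rw [← _root_.mul_assoc, hur]
    have hrange : LinearMap.range (u * r) = W := by
      rw [← huW]
      refine le_antisymm (LinearMap.range_comp_le_range r u) ?_
      rintro _ ⟨x, rfl⟩
      exact ⟨u x, LinearMap.congr_fun hur x⟩
    refine ⟨LinearMap.ker (u * r), hrange ▸ LinearMap.IsIdempotentElem.isCompl hp, fun τ => ?_⟩
    rintro _ ⟨x, hx, rfl⟩
    have hc := endSpan_commute A ((hmem _).1 (E.mul_mem ((hmem u).2 hu) hr)) τ
    show (u * r) (Vgal A τ x) = 0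
    rw [show (u * r) (Vgal A τ x) = Vgal A τ ((u * r) x) from LinearMap.congr_fun hc x,
      show (u * r) x = 0 from hx, map_zero]
  · haveI : IsProper (A ⊗ A).hom := by rw [Over.tensorObj_hom]; infer_instance
    haveI : GeometricallyIntegral (A ⊗ A).hom := H23.MaxAbelian.geometricallyIntegral_tensor A A
    haveI : IsCommMonObj (A ⊗ A) := isCommMonObj_of_isProper_of_geometricallyIntegral (A ⊗ A)
    let l₁ : A ⟶ A ⊗ A := lift (𝟙 A) 1
    let l₂ : A ⟶ A ⊗ A := lift 1 (𝟙 A)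
    haveI : IsMonHom l₁ := GrpSchLib.RigidHom.isMonHom_of_one l₁ (by
      ext1 <;> simp [l₁, comp_lift, MonObj.comp_one, MonObj.one_eq_one, IsMonHom.one_hom])
    haveI : IsMonHom l₂ := GrpSchLib.RigidHom.isMonHom_of_one l₂ (by
      ext1 <;> simp [l₂, comp_lift, MonObj.comp_one, MonObj.one_eq_one, IsMonHom.one_hom])
    haveI : IsMonHom (1 : A ⟶ A) := (EndAV.Hom.isMonHom_toHom (0 : EndAV.Hom A A) :)
    let p₁ : Vt l Ω (A ⊗ A) →ₗ[ℚ_[l]] Vt l Ω A := Vmap (fst A A)
    let p₂ : Vt l Ω (A ⊗ A) →ₗ[ℚ_[l]] Vt l Ω A := Vmap (snd A A)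
    let i₁ : Vt l Ω A →ₗ[ℚ_[l]] Vt l Ω (A ⊗ A) := Vmap l₁
    let i₂ : Vt l Ω A →ₗ[ℚ_[l]] Vt l Ω (A ⊗ A) := Vmap l₂
    have h11 : ∀ x, p₁ (i₁ x) = x := fun x => by
      rw [← LinearMap.comp_apply, ← Vmap_comp, Vmap_congr (lift_fst (𝟙 A) (1 : A ⟶ A)), Vmap_id]; rfl
    have h21 : ∀ x, p₂ (i₁ x) = 0 := fun x => by
      rw [← LinearMap.comp_apply, ← Vmap_comp, Vmap_congr (lift_snd (𝟙 A) (1 : A ⟶ A)), Vmap_one]; rfl
    have h12 : ∀ x, p₁ (i₂ x) = 0 := fun x => by
      rw [← LinearMap.comp_apply, ← Vmap_comp, Vmap_congr (lift_fst (1 : A ⟶ A) (𝟙 A)), Vmap_one]; rfl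
    have h22 : ∀ x, p₂ (i₂ x) = x := fun x => by
      rw [← LinearMap.comp_apply, ← Vmap_comp, Vmap_congr (lift_snd (1 : A ⟶ A) (𝟙 A)), Vmap_id]; rfl
    have hone : (fst A A ≫ l₁) * (snd A A ≫ l₂) = 𝟙 (A ⊗ A) := by
      refine CartesianMonoidalCategory.hom_ext _ _ ?_ ?_
      · rw [MonObj.mul_comp, Category.assoc, Category.assoc, lift_fst, lift_fst, MonObj.comp_one, Category.comp_id,
          Category.id_comp, _root_.mul_one]
      · rw [MonObj.mul_comp, Category.assoc, Category.assoc, lift_snd, lift_snd, MonObj.comp_one, Category.comp_id,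
          Category.id_comp, _root_.one_mul]
    have hsum : ∀ z, i₁ (p₁ z) + i₂ (p₂ z) = z := fun z => by
      haveI : IsMonHom ((fst A A ≫ l₁) * (snd A A ≫ l₂)) := hone ▸ inferInstance
      have h := Vmap_congr (l := l) (Ω := Ω) hone
      rw [Vmap_mul, Vmap_comp, Vmap_comp, Vmap_id] at h
      exact LinearMap.congr_fun h z
    let g : Vt l Ω A →ₗ[ℚ_[l]] Vt l Ω (A ⊗ A) := i₁ + i₂ ∘ₗ φ
    have hg₁ : ∀ x, p₁ (g x) = x := fun x => by
      rw [LinearMap.add_apply, map_add, h11, LinearMap.comp_apply, h12, add_zero]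
    have hg₂ : ∀ x, p₂ (g x) = φ x := fun x => by
      rw [LinearMap.add_apply, map_add, h21, LinearMap.comp_apply, h22, zero_add]
    obtain ⟨u, hu, huW⟩ := hR (A ⊗ A) (LinearMap.range g) (fun τ => by
      rintro _ ⟨_, ⟨x, rfl⟩, rfl⟩
      refine ⟨Vgal A τ x, ?_⟩
      show i₁ (Vgal A τ x) + i₂ (φ (Vgal A τ x)) = Vgal (A ⊗ A) τ (i₁ x + i₂ (φ x))
      rw [map_add, show φ (Vgal A τ x) = Vgal A τ (φ x) from LinearMap.congr_fun (hφ τ) x]
      exact congrArg₂ (· + ·) (LinearMap.congr_fun (Vmap_natural τ l₁) x)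
        (LinearMap.congr_fun (Vmap_natural τ l₂) (φ x)))
    have hentry : ∀ (a : A ⊗ A ⟶ A) [IsMonHom a] (b : A ⟶ A ⊗ A) [IsMonHom b],
        Vmap a ∘ₗ u ∘ₗ Vmap b ∈ E := fun a _ b _ => by
      clear huW
      induction hu using Submodule.span_induction with
      | mem x hx =>
        obtain ⟨f, hf, rfl⟩ := hx
        refine (hmem _).2 (Submodule.subset_span ⟨(b ≫ f) ≫ a, inferInstance, ?_⟩)
        exact (by rw [Vmap_comp, Vmap_comp] :
          Vmap a ∘ₗ Vmap f ∘ₗ Vmap b = Vmap (l := l) (Ω := Ω) ((b ≫ f) ≫ a))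
      | zero => rw [LinearMap.zero_comp, LinearMap.comp_zero]; exact zero_mem E
      | add x y _ _ hx hy => rw [LinearMap.add_comp, LinearMap.comp_add]; exact add_mem hx hy
      | smul c x _ hx => rw [LinearMap.smul_comp, LinearMap.comp_smul]; exact E.smul_mem hx c
    have hcomm : ∀ (c : Module.End E (Vt l Ω A)) (x : Vt l Ω A), φ (c x) = c (φ x) := fun c x => by
      have hc : ∀ (e : Module.End ℚ_[l] (Vt l Ω A)), e ∈ E → ∀ y, c (e y) = e (c y) := fun e he y =>
        c.map_smul (⟨e, he⟩ : E) y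
      have hpu : ∀ (a : A ⊗ A ⟶ A) [IsMonHom a] (z : Vt l Ω (A ⊗ A)),
          Vmap a (u (i₁ (c (p₁ z)) + i₂ (c (p₂ z)))) = c (Vmap a (u z)) := fun a _ z => by
        rw [map_add, map_add]
        conv_rhs => rw [← hsum z, map_add, map_add, map_add]
        exact congrArg₂ (· + ·) (hc _ (hentry a l₁) (p₁ z)).symm (hc _ (hentry a l₂) (p₂ z)).symm
      obtain ⟨z, hz⟩ : g x ∈ LinearMap.range u := huW ▸ ⟨x, rfl⟩
      obtain ⟨x', hx'⟩ : u (i₁ (c (p₁ z)) + i₂ (c (p₂ z))) ∈ LinearMap.range g := huW ▸ ⟨_, rfl⟩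
      have h1 : x' = c x := by
        rw [← hg₁ x', hx', hpu (fst A A) z, hz]
        exact congrArg c (hg₁ x)
      have h2 : φ x' = c (φ x) := by
        rw [← hg₂ x', hx', hpu (snd A A) z, hz]
        exact congrArg c (hg₂ x)
      rw [← h2, h1]
    haveI : Module.Finite (Module.End E (Vt l Ω A)) (Vt l Ω A) :=
      Module.Finite.of_restrictScalars_finite ℚ_[l] _ _
    obtain ⟨⟨r, hr⟩, hrφ⟩ := Module.Finite.toModuleEnd_moduleEnd_surjective (R := E) (M := Vt l Ω A)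
      { toFun := φ, map_add' := map_add φ, map_smul' := fun c x => hcomm c x }
    rw [show φ = r from LinearMap.ext fun x => (LinearMap.congr_fun hrφ x).symm]
    exact (hmem r).1 hr

/-- Tate: semisimplicity and the double commutant -/
theorem semisimple_and_commutant (hl : (l : k) ≠ 0)
    (hFin : ∀ (Z : Over (Spec (CommRingCat.of k))) [GrpObj Z] [IsCommMonObj Z] [IsProper Z.hom] [GeometricallyIntegral Z.hom],
      ∃ (J : Type u) (_ : Finite J) (F : J → Over (Spec (CommRingCat.of k))),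
        ∀ (Y : Over (Spec (CommRingCat.of k))) [GrpObj Y] [IsCommMonObj Y] [IsProper Y.hom] [GeometricallyIntegral Y.hom]
          (u : Z ⟶ Y) [IsMonHom u] (v : Y ⟶ Z) [IsMonHom v] (m : ℕ),
          u ≫ v = (𝟙 Z) ^ (l ^ m) → v ≫ u = (𝟙 Y) ^ (l ^ m) → ∃ i, Nonempty (Y ≅ F i))
    [Module.Finite ℤ_[l] (AbDual.TateMod A l (SGA7.pt (K := k) Ω))] :
    (∀ W : Submodule ℚ_[l] (Vt l Ω A), (∀ τ : Ω ≃ₐ[k] Ω, W.map (Vgal A τ) ≤ W) →
        ∃ W' : Submodule ℚ_[l] (Vt l Ω A), IsCompl W W' ∧ ∀ τ : Ω ≃ₐ[k] Ω, W'.map (Vgal A τ) ≤ W') ∧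
      ∀ φ : Module.End ℚ_[l] (Vt l Ω A), (∀ τ : Ω ≃ₐ[k] Ω, φ ∘ₗ Vgal A τ = Vgal A τ ∘ₗ φ) →
        φ ∈ endSpan l Ω A := by
  refine semisimple_and_commutant_of_range A hl fun Z _ _ _ _ W hW => ?_
  obtain ⟨J, hJ, F, hF⟩ := hFin Z
  haveI := hJ
  exact exists_range_eq Z hl F hF W hW

end Groth.Agent.AVTate

end
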