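import Groth.Agent.AVTate.Points
import Groth.Agent.AVHomLib.TateIndep
import Groth.Agent.GrpSchLib.RigidHom
import Groth.Prelude.Def_EndTate
import Mathlib.RingTheory.Filtration

/-!
# Galois-stable lattices in Tate modules and Tate's approximation argument
-/

set_option autoImplicit false
set_option linter.style.haveILetI false
set_option linter.unusedSectionVars false
set_option backward.isDefEq.respectTransparency false
set_option backward.isDefEq.respectTransparency.types false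
set_option synthInstance.maxHeartbeats 400000
set_option maxHeartbeats 1000000

universe u

noncomputable section

open CategoryTheory CategoryTheory.Limits AlgebraicGeometry MonoidalCategory CartesianMonoidalCategory
open scoped MonObj

attribute [-instance] CategoryTheory.catToReflQuiver

namespace Groth.Agent.AVTate

variable {k Ω : Type u} [Field k] [Field Ω] [Algebra k Ω] {l : ℕ} [Fact l.Prime]
  {A B C : Over (Spec (CommRingCat.of k))} [GrpObj A] [IsCommMonObj A] [GrpObj B] [IsCommMonObj B]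
  [GrpObj C] [IsCommMonObj C]

/-- the Galois action on the Tate module of geometric points -/
def galT (A : Over (Spec (CommRingCat.of k))) [GrpObj A] [IsCommMonObj A] (l : ℕ) [Fact l.Prime] (τ : Ω ≃ₐ[k] Ω) :
    Module.End ℤ_[l] (AbDual.TateMod A l (SGA7.pt (K := k) Ω)) where
  toFun x := ⟨fun n => Additive.ofMul (SGA7.specAut τ ≫ ((x : ℕ → Additive (SGA7.pt (K := k) Ω ⟶ A)) n).toMul),
    fun n => by
      rw [← ofMul_pow, ← MonObj.comp_pow, ← toMul_nsmul, x.torsion n, toMul_zero, MonObj.comp_one]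
      rfl,
    fun n => by rw [← ofMul_pow, ← MonObj.comp_pow, ← toMul_nsmul, x.compat n]⟩
  map_add' x y := AbDual.TateMod.ext fun n => congrArg Additive.ofMul (MonObj.comp_mul _ _ _)
  map_smul' a x := AbDual.TateMod.ext fun n => congrArg Additive.ofMul (MonObj.comp_pow _ _ _)

theorem galT_apply (τ : Ω ≃ₐ[k] Ω) (x : AbDual.TateMod A l (SGA7.pt (K := k) Ω)) (n : ℕ) :
    ((galT A l τ x : AbDual.TateMod A l (SGA7.pt (K := k) Ω)) : ℕ → Additive (SGA7.pt (K := k) Ω ⟶ A)) n =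
      Additive.ofMul (SGA7.galAct τ ((x : ℕ → Additive (SGA7.pt (K := k) Ω ⟶ A)) n).toMul) := rfl

theorem eq_galT (ρ : (Ω ≃ₐ[k] Ω) → Module.End ℤ_[l] (AbDual.TateMod A l (SGA7.pt (K := k) Ω)))
    (hρ : ∀ (τ : Ω ≃ₐ[k] Ω) (z : AbDual.TateMod A l (SGA7.pt (K := k) Ω)) (m : ℕ),
      (AbDual.TateMod.component A l (SGA7.pt Ω) m (ρ τ z)).toMul =
        SGA7.galAct τ (AbDual.TateMod.component A l (SGA7.pt Ω) m z).toMul) (τ : Ω ≃ₐ[k] Ω) :
    ρ τ = galT A l τ :=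
  LinearMap.ext fun z => AbDual.TateMod.ext fun m => congrArg Additive.ofMul (hρ τ z m)

theorem galT_natural (τ : Ω ≃ₐ[k] Ω) (f : A ⟶ B) [IsMonHom f] :
    AbDual.tateMapₗ (l := l) (T := SGA7.pt (K := k) Ω) f ∘ₗ galT A l τ =
      galT B l τ ∘ₗ AbDual.tateMapₗ (l := l) (T := SGA7.pt (K := k) Ω) f :=
  LinearMap.ext fun _ => AbDual.TateMod.ext fun _ => congrArg Additive.ofMul (Category.assoc _ _ _)

theorem tateMapₗ_comp {T : Over (Spec (CommRingCat.of k))} (f : A ⟶ B) [IsMonHom f] (g : B ⟶ C) [IsMonHom g] :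
    AbDual.tateMapₗ (l := l) (T := T) (f ≫ g) = AbDual.tateMapₗ g ∘ₗ AbDual.tateMapₗ f :=
  LinearMap.ext fun _ => AbDual.TateMod.ext fun _ => congrArg Additive.ofMul (Category.assoc _ _ _).symm

theorem tateMapₗ_pow {T : Over (Spec (CommRingCat.of k))} (N : ℕ) [IsMonHom (𝟙 A ^ N : A ⟶ A)] :
    AbDual.tateMapₗ (l := l) (T := T) (𝟙 A ^ N : A ⟶ A) = (N : ℤ_[l]) • LinearMap.id := by
  refine LinearMap.ext fun x => ?_
  rw [LinearMap.smul_apply, LinearMap.id_apply, Nat.cast_smul_eq_nsmul]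
  refine AbDual.TateMod.ext fun n => ?_
  show Additive.ofMul (_ ≫ (𝟙 A ^ N)) = _
  rw [MonObj.comp_pow, Category.comp_id]
  rfl

theorem tateMapₗ_congr {T : Over (Spec (CommRingCat.of k))} {f g : A ⟶ B} [IsMonHom f] [IsMonHom g] (h : f = g) :
    AbDual.tateMapₗ (l := l) (T := T) f = AbDual.tateMapₗ g := by
  subst h
  rfl

theorem nsmul_pow_compat {T : Over (Spec (CommRingCat.of k))} (x : AbDual.TateMod A l T) (n j : ℕ) :
    (l ^ j) • (x : ℕ → Additive (T ⟶ A)) (n + j) = (x : ℕ → Additive (T ⟶ A)) n := by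
  induction j with
  | zero => rw [pow_zero, one_nsmul, Nat.add_zero]
  | succ j ih => rw [pow_succ, mul_nsmul', ← Nat.add_assoc, x.compat (n + j), ih]

/-- elements with vanishing `n`-th component are divisible by `l ^ n` -/
theorem exists_smul_eq_of_component {T : Over (Spec (CommRingCat.of k))} (x : AbDual.TateMod A l T) (n : ℕ)
    (h : (x : ℕ → Additive (T ⟶ A)) n = 0) : ∃ z, x = ((l : ℤ_[l]) ^ n) • z := by
  refine ⟨⟨fun m => (x : ℕ → Additive (T ⟶ A)) (m + n), fun m => ?_, fun m => ?_⟩, ?_⟩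
  · dsimp only
    rw [Nat.add_comm m n, nsmul_pow_compat x n m, h]
  · dsimp only
    rw [Nat.add_right_comm]
    exact x.compat (m + n)
  · rw [← Nat.cast_pow, Nat.cast_smul_eq_nsmul]
    exact AbDual.TateMod.ext fun m => (nsmul_pow_compat x m n).symm

theorem component_pow_smul {T : Over (Spec (CommRingCat.of k))} (x : AbDual.TateMod A l T) (n : ℕ) :
    ((((l : ℤ_[l]) ^ n) • x : AbDual.TateMod A l T) : ℕ → Additive (T ⟶ A)) n = 0 := by
  rw [← Nat.cast_pow, Nat.cast_smul_eq_nsmul]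
  exact x.torsion n

/-- a scheme isomorphism of abelian varieties gives an isomorphism of groups -/
theorem exists_hom_of_iso [IsProper A.hom] [GeometricallyIntegral A.hom] [IsProper B.hom] [GeometricallyIntegral B.hom]
    (e : A ≅ B) : ∃ (φ : A ⟶ B) (ψ : B ⟶ A), IsMonHom φ ∧ IsMonHom ψ ∧ φ ≫ ψ = 𝟙 A ∧ ψ ≫ φ = 𝟙 B := by
  let c : 𝟙_ (Over (Spec (CommRingCat.of k))) ⟶ B := η[A] ≫ e.hom
  have hc : ∀ {T Z : Over (Spec (CommRingCat.of k))} (a : T ⟶ Z), a ≫ toUnit Z ≫ c = toUnit T ≫ c := fun a => by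
    rw [← Category.assoc, toUnit_unique (a ≫ toUnit _) (toUnit _)]
  have hB : η[B] * c = c := by
    rw [MonObj.one_eq_one, _root_.one_mul]
  refine ⟨e.hom * (toUnit A ≫ c)⁻¹, (𝟙 B * (toUnit B ≫ c)) ≫ e.inv, ?_, ?_, ?_, ?_⟩
  · refine GrpSchLib.RigidHom.isMonHom_of_one _ ?_
    rw [MonObj.comp_mul, GrpObj.comp_inv, ← Category.assoc η[A], toUnit_unique (η[A] ≫ toUnit A) (𝟙 _),
      Category.id_comp, mul_inv_cancel]
  · refine GrpSchLib.RigidHom.isMonHom_of_one _ ?_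
    rw [← Category.assoc, MonObj.comp_mul, Category.comp_id, ← Category.assoc η[B],
      toUnit_unique (η[B] ≫ toUnit B) (𝟙 _), Category.id_comp, hB,
      show c ≫ e.inv = η[A] by simp [c]]
    exact MonObj.one_eq_one _
  · rw [← Category.assoc, MonObj.comp_mul, Category.comp_id, hc, inv_mul_cancel_right, e.hom_inv_id]
  · rw [MonObj.comp_mul, GrpObj.comp_inv, hc, Category.assoc, e.inv_hom_id, Category.comp_id, mul_inv_cancel_right]

/-- submodules of finite modules over `ℤ_l` are closed -/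
theorem mem_of_forall_mem_sup {M : Type*} [AddCommGroup M] [Module ℤ_[l] M] [Module.Finite ℤ_[l] M]
    (N : Submodule ℤ_[l] M) (x : M) (h : ∀ n : ℕ, ∃ z, x - ((l : ℤ_[l]) ^ n) • z ∈ N) : x ∈ N := by
  rw [← Submodule.Quotient.mk_eq_zero]
  have hb := Ideal.iInf_pow_smul_eq_bot_of_isLocalRing (M := M ⧸ N) (IsLocalRing.maximalIdeal ℤ_[l])
    (IsLocalRing.maximalIdeal.isMaximal _).ne_top
  rw [← Submodule.mem_bot ℤ_[l], ← hb, Submodule.mem_iInf]
  intro n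
  obtain ⟨z, hz⟩ := h n
  rw [PadicInt.maximalIdeal_eq_span_p, Ideal.span_singleton_pow, (Submodule.Quotient.eq N).2 hz,
    Submodule.Quotient.mk_smul]
  exact Submodule.smul_mem_smul (Ideal.mem_span_singleton_self _) Submodule.mem_top

variable [IsAlgClosed Ω] [Algebra.IsAlgebraic k Ω] [Normal k Ω] [IsProper A.hom] [GeometricallyIntegral A.hom]

/-- Galois-stable lattices come from isogenies -/
theorem exists_isogeny_of_lattice (hl : (l : k) ≠ 0) (n : ℕ)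
    (L : Submodule ℤ_[l] (AbDual.TateMod A l (SGA7.pt (K := k) Ω))) (hL : ∀ x, ((l : ℤ_[l]) ^ n) • x ∈ L)
    (hLG : ∀ τ : Ω ≃ₐ[k] Ω, ∀ x ∈ L, galT A l τ x ∈ L) :
    ∃ (Y : Over (Spec (CommRingCat.of k))) (_ : GrpObj Y) (_ : IsCommMonObj Y) (_ : IsProper Y.hom)
      (_ : GeometricallyIntegral Y.hom) (q : A ⟶ Y) (_ : IsMonHom q) (v : Y ⟶ A) (_ : IsMonHom v),
      q ≫ v = 𝟙 A ^ (l ^ n) ∧ v ≫ q = 𝟙 Y ^ (l ^ n) ∧
        LinearMap.range (AbDual.tateMapₗ (l := l) (T := SGA7.pt (K := k) Ω) v) = L := by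
  let P : Subgroup (SGA7.pt (K := k) Ω ⟶ A) :=
    { carrier := {a | ∃ z ∈ L, (z : ℕ → Additive (SGA7.pt (K := k) Ω ⟶ A)) n = Additive.ofMul a}
      one_mem' := ⟨0, zero_mem L, rfl⟩
      mul_mem' := by
        rintro a b ⟨z, hz, hza⟩ ⟨w, hw, hwb⟩
        exact ⟨z + w, add_mem hz hw, congrArg₂ (· + ·) hza hwb⟩
      inv_mem' := by
        rintro a ⟨z, hz, hza⟩
        exact ⟨-z, neg_mem hz, congrArg (- ·) hza⟩ }
  obtain ⟨Y, _, _, hYp, hYi, q, hq, v, hv, hqv, hvq, hker⟩ :=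
    exists_isogeny_of_pts (A := A) (l ^ n) (by rw [Nat.cast_pow]; exact pow_ne_zero n hl) P
      (by
        rintro a ⟨z, -, hz⟩
        exact congrArg Additive.toMul ((congrArg ((l ^ n) • ·) hz).symm.trans (z.torsion n)))
      (by
        rintro τ a ⟨z, hz, hza⟩
        exact ⟨galT A l τ z, hLG τ z hz, by rw [galT_apply, hza]; rfl⟩)
  refine ⟨Y, inferInstance, inferInstance, hYp, hYi, q, hq, v, hv, hqv, hvq, le_antisymm ?_ fun x hx => ?_⟩
  · rintro _ ⟨y, rfl⟩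
    let a : SGA7.pt (K := k) Ω ⟶ Y := ((y : ℕ → Additive (SGA7.pt (K := k) Ω ⟶ Y)) n).toMul
    obtain ⟨z, hz, hzn⟩ : a ≫ v ∈ P := (hker _).1 (by
      rw [Category.assoc, hvq, MonObj.comp_pow, Category.comp_id]
      exact congrArg Additive.toMul (y.torsion n))
    obtain ⟨w, hw⟩ := exists_smul_eq_of_component (AbDual.tateMapₗ v y - z) n (by
      show Additive.ofMul (a ≫ v) - (z : ℕ → Additive (SGA7.pt (K := k) Ω ⟶ A)) n = 0
      rw [hzn, sub_self])
    rw [← sub_add_cancel (AbDual.tateMapₗ v y) z, hw]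
    exact add_mem (hL w) hz
  · refine ⟨⟨fun m => Additive.ofMul (((x : ℕ → Additive (SGA7.pt (K := k) Ω ⟶ A)) (m + n)).toMul ≫ q),
      fun m => ?_, fun m => ?_⟩, AbDual.TateMod.ext fun m => ?_⟩
    · rw [← ofMul_pow, ← MonObj.pow_comp, ← toMul_nsmul, Nat.add_comm m n, nsmul_pow_compat x n m]
      exact congrArg Additive.ofMul ((hker _).2 ⟨x, hx, rfl⟩)
    · rw [← ofMul_pow, ← MonObj.pow_comp, ← toMul_nsmul, Nat.add_right_comm, x.compat (m + n)]
    · show Additive.ofMul ((((x : ℕ → Additive (SGA7.pt (K := k) Ω ⟶ A)) (m + n)).toMul ≫ q) ≫ v) = _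
      rw [Category.assoc, hqv, MonObj.comp_pow, Category.comp_id, ← toMul_nsmul, ofMul_toMul]
      exact nsmul_pow_compat x m n

/-- Tate's approximation argument -/
theorem exists_end_sandwich (hl : (l : k) ≠ 0) {J : Type u} [Finite J] (F : J → Over (Spec (CommRingCat.of k)))
    (hF : ∀ (Y : Over (Spec (CommRingCat.of k))) [GrpObj Y] [IsCommMonObj Y] [IsProper Y.hom] [GeometricallyIntegral Y.hom]
      (q : A ⟶ Y) [IsMonHom q] (v : Y ⟶ A) [IsMonHom v] (m : ℕ),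
      q ≫ v = (𝟙 A) ^ (l ^ m) → v ≫ q = (𝟙 Y) ^ (l ^ m) → ∃ i, Nonempty (Y ≅ F i))
    (W : Submodule ℤ_[l] (AbDual.TateMod A l (SGA7.pt (K := k) Ω)))
    (hWG : ∀ τ : Ω ≃ₐ[k] Ω, ∀ x ∈ W, galT A l τ x ∈ W) :
    ∃ (c : ℕ) (f : Module.End ℤ_[l] (AbDual.TateMod A l (SGA7.pt (K := k) Ω))),
      f ∈ Submodule.span ℤ_[l] (Set.range (EndAV.End.tateRep (A := A) l (SGA7.pt (K := k) Ω))) ∧
        (∀ x, f x ∈ W) ∧ ∀ w ∈ W, ∃ x, f x = ((l : ℤ_[l]) ^ c) • w := by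
  haveI := (AVTorsLib.tateMod_free_pt (k := k) Ω (A := A) l hl).2
  let L : ℕ → Submodule ℤ_[l] (AbDual.TateMod A l (SGA7.pt (K := k) Ω)) := fun n =>
    W ⊔ LinearMap.range (((l : ℤ_[l]) ^ n) • LinearMap.id)
  have hLmem : ∀ n x, x ∈ L n ↔ ∃ z, x - ((l : ℤ_[l]) ^ n) • z ∈ W := fun n x => by
    refine ⟨fun h => ?_, ?_⟩
    · obtain ⟨w, hw, _, ⟨z, rfl⟩, rfl⟩ := Submodule.mem_sup.1 h
      exact ⟨z, by simpa using hw⟩
    · rintro ⟨z, hz⟩
      exact Submodule.mem_sup.2 ⟨_, hz, _, ⟨z, rfl⟩, by simp⟩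
  have h0 := fun n => exists_isogeny_of_lattice hl n (L n) (fun x => (hLmem n _).2 ⟨x, by rw [sub_self]; exact zero_mem W⟩)
    (fun τ x hx => by
      obtain ⟨z, hz⟩ := (hLmem n x).1 hx
      exact (hLmem n _).2 ⟨galT A l τ z, by simpa only [map_sub, map_smul] using hWG τ _ hz⟩)
  choose Y iG iC iP iI q iq v iv hqv hvq hr using h0
  choose idx he using fun n => @hF (Y n) (iG n) (iC n) (iP n) (iI n) (q n) (iq n) (v n) (iv n) n (hqv n) (hvq n)
  obtain ⟨i₀, hi₀⟩ := Finite.exists_infinite_fiber idx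
  haveI := hi₀
  let S : Set ℕ := idx ⁻¹' {i₀}
  obtain ⟨n₀, hn₀⟩ := Set.Nonempty.of_subtype (s := S)
  have hstep : ∀ n ∈ S, ∃ f : EndAV.End A, (∀ x, EndAV.End.tateRep l (SGA7.pt (K := k) Ω) f x ∈ L n) ∧
      ∀ w ∈ L n, ∃ x, EndAV.End.tateRep l (SGA7.pt (K := k) Ω) f x = ((l : ℤ_[l]) ^ n₀) • w := fun n hn => by
    obtain ⟨e₀⟩ := he n₀
    obtain ⟨e⟩ := he n
    rw [show idx n₀ = i₀ from hn₀] at e₀
    rw [show idx n = i₀ from hn] at e
    letI := iG n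
    letI := iG n₀
    haveI := iC n
    haveI := iC n₀
    haveI := iP n
    haveI := iP n₀
    haveI := iI n
    haveI := iI n₀
    haveI := iq n₀
    haveI := iv n
    haveI := iv n₀
    obtain ⟨φ, ψ, hφ, hψ, -, hψφ⟩ := exists_hom_of_iso (e₀ ≪≫ e.symm)
    haveI := hφ
    haveI := hψ
    haveI : IsMonHom (𝟙 (Y n₀) ^ (l ^ n₀) : Y n₀ ⟶ Y n₀) := AVDegLib.isMonHom_pow (A := Y n₀) _
    have hf : EndAV.End.tateRep l (SGA7.pt (K := k) Ω) (EndAV.End.of (q n₀ ≫ φ ≫ v n)) =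
        AbDual.tateMapₗ (v n) ∘ₗ AbDual.tateMapₗ φ ∘ₗ AbDual.tateMapₗ (q n₀) := by
      show AbDual.tateMapₗ (q n₀ ≫ φ ≫ v n) = _
      rw [tateMapₗ_comp, tateMapₗ_comp, LinearMap.comp_assoc]
    refine ⟨EndAV.End.of (q n₀ ≫ φ ≫ v n), fun x => ?_, fun w hw => ?_⟩
    · rw [hf, ← hr n]
      exact ⟨_, rfl⟩
    · obtain ⟨y, rfl⟩ : w ∈ LinearMap.range (AbDual.tateMapₗ (l := l) (T := SGA7.pt (K := k) Ω) (v n)) :=
        (hr n).symm ▸ hw
      refine ⟨AbDual.tateMapₗ (v n₀) (AbDual.tateMapₗ ψ y), ?_⟩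
      have h1 : AbDual.tateMapₗ (l := l) (T := SGA7.pt (K := k) Ω) (q n₀) ∘ₗ AbDual.tateMapₗ (v n₀) =
          ((l : ℤ_[l]) ^ n₀) • LinearMap.id := by
        rw [← tateMapₗ_comp, tateMapₗ_congr (hvq n₀), tateMapₗ_pow, Nat.cast_pow]
      have h2 : AbDual.tateMapₗ (l := l) (T := SGA7.pt (K := k) Ω) φ (AbDual.tateMapₗ ψ y) = y :=
        AbDual.TateMod.ext fun m => congrArg Additive.ofMul (by
          show (_ ≫ ψ) ≫ φ = _
          rw [Category.assoc, hψφ, Category.comp_id]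
          rfl)
      rw [hf, LinearMap.comp_apply, LinearMap.comp_apply,
        show AbDual.tateMapₗ (q n₀) (AbDual.tateMapₗ (v n₀) (AbDual.tateMapₗ ψ y)) = ((l : ℤ_[l]) ^ n₀) • AbDual.tateMapₗ ψ y from
          LinearMap.congr_fun h1 _, map_smul, map_smul, h2]
  obtain ⟨σ, hσ, hσS⟩ : ∃ σ : ℕ → ℕ, StrictMono σ ∧ ∀ j, σ j ∈ S :=
    ⟨_, Nat.nth_strictMono (Set.infinite_coe_iff.1 hi₀), fun j => Nat.nth_mem_of_infinite (Set.infinite_coe_iff.1 hi₀) j⟩
  choose f hf₁ hf₂ using fun j => hstep (σ j) (hσS j)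
  haveI : Module.Finite ℤ (EndAV.End A) := (AVHomLib.hom_free (A := A) (B := A)).1
  obtain ⟨r, e, he'⟩ := Module.Finite.exists_fin (R := ℤ) (M := EndAV.End A)
  choose a ha using fun j => (Submodule.mem_span_range_iff_exists_fun ℤ).1
    (he' ▸ Submodule.mem_top : f j ∈ Submodule.span ℤ (Set.range e))
  obtain ⟨b, φ, hφ, hb⟩ := CompactSpace.tendsto_subseq (fun j t => ((a j t : ℤ) : ℤ_[l]))
  let Te := fun t => EndAV.End.tateRep l (SGA7.pt (K := k) Ω) (e t)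
  refine ⟨n₀, ∑ t, b t • Te t, sum_mem fun t _ => Submodule.smul_mem _ _ (Submodule.subset_span ⟨_, rfl⟩), ?_, ?_⟩
  all_goals
    have happrox : ∀ N : ℕ, ∃ j, N ≤ σ j ∧ ∀ x, ∃ z, (∑ t, b t • Te t) x =
        EndAV.End.tateRep l (SGA7.pt (K := k) Ω) (f j) x + ((l : ℤ_[l]) ^ N) • z := fun N => by
      have hl1 : (0 : ℝ) < (l : ℝ) ^ (-(N : ℤ)) := zpow_pos (by exact_mod_cast (Fact.out : l.Prime).pos) _
      obtain ⟨M, hM⟩ := Metric.tendsto_atTop.1 hb _ hl1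
      refine ⟨φ (max M N), le_trans (le_max_right M N) ((hφ.id_le _).trans (hσ.id_le _)), fun x => ?_⟩
      have hd : ∀ t, ∃ d, b t - ((a (φ (max M N)) t : ℤ) : ℤ_[l]) = (l : ℤ_[l]) ^ N * d := fun t => by
        refine (Ideal.mem_span_singleton.1 ((PadicInt.norm_le_pow_iff_mem_span_pow _ N).1 ?_))
        rw [← dist_eq_norm, dist_comm]
        exact ((dist_le_pi_dist _ _ t).trans_lt (hM _ (le_max_left M N))).le
      choose d hd using hd
      refine ⟨∑ t, d t • Te t x, ?_⟩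
      rw [← ha (φ (max M N)), map_sum, LinearMap.sum_apply, LinearMap.sum_apply, Finset.smul_sum,
        ← Finset.sum_add_distrib]
      refine Finset.sum_congr rfl fun t _ => ?_
      rw [map_zsmul, ← Int.cast_smul_eq_zsmul ℤ_[l], LinearMap.smul_apply, LinearMap.smul_apply, smul_smul,
        ← hd t, ← add_smul, add_sub_cancel]
  · intro x
    refine mem_of_forall_mem_sup W _ fun N => ?_
    obtain ⟨j, hj, hz⟩ := happrox N
    obtain ⟨z, hz⟩ := hz x
    obtain ⟨z', hz'⟩ := (hLmem _ _).1 (hf₁ j x)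
    obtain ⟨d, hd⟩ := Nat.exists_eq_add_of_le hj
    refine ⟨z + ((l : ℤ_[l]) ^ d) • z', ?_⟩
    rw [hz, smul_add, smul_smul, ← pow_add, ← hd]
    convert hz' using 1
    abel
  · intro w hw
    refine mem_of_forall_mem_sup (LinearMap.range (∑ t, b t • Te t)) _ fun N => ?_
    obtain ⟨j, hj, hz⟩ := happrox N
    obtain ⟨x, hx⟩ := hf₂ j w ((hLmem _ _).2 ⟨0, by rwa [smul_zero, sub_zero]⟩)
    obtain ⟨z, hz⟩ := hz x
    refine ⟨-z, x, ?_⟩
    rw [hz, hx, smul_neg, sub_neg_eq_add]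

end Groth.Agent.AVTate

end
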