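import Groth.Agent.AVTorsLib.GeomPts
import Groth.Agent.IsogLib.Kernel
import Groth.Agent.AVRosati.FinQuot
import Groth.Agent.AVRosati.Factor
import Groth.Agent.AVRosati.KernelPoint
import Groth.Agent.S7795

/-!
# Galois-stable finite groups of geometric points and the isogenies they define
-/

set_option autoImplicit false
set_option linter.style.haveILetI false
set_option linter.unusedSectionVars false
set_option backward.isDefEq.respectTransparency false
set_option backward.isDefEq.respectTransparency.types false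
set_option synthInstance.maxHeartbeats 400000
set_option maxHeartbeats 1000000

universe u

noncomputable section

open CategoryTheory CategoryTheory.Limits AlgebraicGeometry MonoidalCategory CartesianMonoidalCategory
open scoped MonObj

attribute [-instance] CategoryTheory.catToReflQuiver

namespace Groth.Agent.AVTate

variable {k Ω : Type u} [Field k] [Field Ω] [Algebra k Ω]

/-- geometric points over the same point are conjugate -/
theorem exists_galAct_eq [Algebra.IsAlgebraic k Ω] [Normal k Ω] {X : Over (Spec (CommRingCat.of k))}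
    (x y : SGA7.pt (K := k) Ω ⟶ X)
    (h : x.left (IsLocalRing.closedPoint Ω) = y.left (IsLocalRing.closedPoint Ω)) :
    ∃ σ : Ω ≃ₐ[k] Ω, SGA7.galAct σ x = y := by
  have hfac : ∀ a : SGA7.pt (K := k) Ω ⟶ X, ∃ φ : X.left.residueField (a.left (IsLocalRing.closedPoint Ω)) ⟶ CommRingCat.of Ω,
      Spec.map φ ≫ X.left.fromSpecResidueField _ = a.left :=
    fun a => ⟨_, Scheme.descResidueField_stalkClosedPointTo_fromSpecResidueField Ω X.left a.left⟩
  obtain ⟨φx, hφx⟩ := hfac x
  obtain ⟨φy, hφy⟩ : ∃ φ : X.left.residueField (x.left (IsLocalRing.closedPoint Ω)) ⟶ CommRingCat.of Ω,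
      Spec.map φ ≫ X.left.fromSpecResidueField _ = y.left := by
    rw [h]
    exact hfac y
  obtain ⟨ψ, hψ⟩ := Spec.map_surjective (X.left.fromSpecResidueField (x.left (IsLocalRing.closedPoint Ω)) ≫ X.hom)
  have hx : ψ ≫ φx = CommRingCat.ofHom (algebraMap k Ω) := Spec.map_injective (by
    rw [Spec.map_comp, hψ, reassoc_of% hφx]
    exact Over.w x)
  have hy : ψ ≫ φy = CommRingCat.ofHom (algebraMap k Ω) := Spec.map_injective (by
    rw [Spec.map_comp, hψ, reassoc_of% hφy]
    exact Over.w y)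
  let F : Type u := X.left.residueField (x.left (IsLocalRing.closedPoint Ω))
  letI : Algebra k F := ψ.hom.toAlgebra
  letI : Algebra F Ω := φx.hom.toAlgebra
  haveI : IsScalarTower k F Ω := IsScalarTower.of_algebraMap_eq fun r => (congr($(hx).hom r)).symm
  let f : F →ₐ[k] Ω := { toRingHom := φy.hom, commutes' := fun r => congr($(hy).hom r) }
  let g : Ω →ₐ[k] Ω := f.liftNormal Ω
  let σ : Ω ≃ₐ[k] Ω := AlgEquiv.ofBijective g (Algebra.IsAlgebraic.algHom_bijective g)
  refine ⟨σ, Over.OverMorphism.ext ?_⟩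
  show Spec.map (CommRingCat.ofHom (σ : Ω →+* Ω)) ≫ x.left = y.left
  rw [← hφx, ← hφy, ← Category.assoc, ← Spec.map_comp]
  congr 2
  ext r
  exact f.liftNormal_commutes Ω r

/-- every point of a finite scheme underlies a geometric point -/
theorem exists_pt_over [IsAlgClosed Ω] {Z : Over (Spec (CommRingCat.of k))} [IsFinite Z.hom] (z : Z.left) :
    ∃ x : SGA7.pt (K := k) Ω ⟶ Z, x.left (IsLocalRing.closedPoint Ω) = z := by
  haveI : IsClosedImmersion (Z.left.fromSpecResidueField z) :=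
    IsClosedImmersion.of_isPreimmersion _ (by
      rw [Scheme.range_fromSpecResidueField]
      haveI : IsLocallyArtinian Z.left := .of_locallyQuasiFinite Z.hom
      exact isClosed_discrete _)
  obtain ⟨ψ, hψ⟩ := Spec.map_surjective (Z.left.fromSpecResidueField z ≫ Z.hom)
  haveI : IsFinite (Spec.map ψ) := by rw [hψ]; infer_instance
  let F : Type u := Z.left.residueField z
  letI : Algebra k F := ψ.hom.toAlgebra
  haveI : Module.Finite k F := (IsFinite.SpecMap_iff ψ).1 inferInstance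
  let f : F →ₐ[k] Ω := IsAlgClosed.lift
  refine ⟨Over.homMk (Spec.map (CommRingCat.ofHom f.toRingHom) ≫ Z.left.fromSpecResidueField z) ?_, ?_⟩
  · show (_ ≫ _) ≫ Z.hom = _
    rw [Category.assoc, ← hψ, ← Spec.map_comp]
    show Spec.map _ = Spec.map _
    congr 1
    ext r
    exact f.commutes r
  · exact Scheme.fromSpecResidueField_apply z _

variable [IsAlgClosed Ω] [Algebra.IsAlgebraic k Ω] [Normal k Ω]
  {A : Over (Spec (CommRingCat.of k))} [GrpObj A] [IsCommMonObj A] [IsProper A.hom] [GeometricallyIntegral A.hom]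

/-- a Galois-stable group of geometric torsion points is a finite subgroup scheme -/
theorem exists_subgroup_scheme (N : ℕ) (hN : (N : k) ≠ 0) (C : Subgroup (SGA7.pt (K := k) Ω ⟶ A))
    (hC : C ≤ AbDual.torsPts A N (SGA7.pt Ω)) (hCG : ∀ σ : Ω ≃ₐ[k] Ω, ∀ x ∈ C, SGA7.galAct σ x ∈ C) :
    ∃ (H : Over (Spec (CommRingCat.of k))) (_ : GrpObj H) (i : H ⟶ A), IsMonHom i ∧ IsClosedImmersion i.left ∧
      IsFinite H.hom ∧ i ^ N = 1 ∧ ∀ x : SGA7.pt (K := k) Ω ⟶ A, (∃ y, y ≫ i = x) ↔ x ∈ C := by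
  obtain ⟨hνf, hνe⟩ := AVTorsLib.isFinite_etale_pow (A := A) N hN
  haveI := hνf
  haveI : IsMonHom (𝟙 A ^ N : A ⟶ A) := AVDegLib.isMonHom_pow (A := A) N
  let K := Over.mk (pullback.snd (𝟙 A ^ N : A ⟶ A).left η[A].left)
  let n : K ⟶ A := Over.homMk (pullback.fst (𝟙 A ^ N : A ⟶ A).left η[A].left) (by
    show pullback.fst (𝟙 A ^ N : A ⟶ A).left η[A].left ≫ A.hom = pullback.snd (𝟙 A ^ N : A ⟶ A).left η[A].left
    rw [← Over.w (𝟙 A ^ N : A ⟶ A), pullback.condition_assoc, Over.w η[A]]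
    exact Category.comp_id _)
  have hK : IsPullback n (toUnit K) (𝟙 A ^ N) η[A] := by
    refine IsPullback.of_map (Over.forget _) ?_ (IsPullback.of_hasPullback (𝟙 A ^ N : A ⟶ A).left η[A].left)
    ext1
    exact pullback.condition
  haveI : IsFinite K.hom := inferInstanceAs (IsFinite (pullback.snd (𝟙 A ^ N : A ⟶ A).left η[A].left))
  haveI : IsClosedImmersion n.left := by
    haveI : IsClosedImmersion η[A].left := AVRosati.KernelPoint.isClosedImmersion_unit
    exact inferInstanceAs (IsClosedImmersion (pullback.fst (𝟙 A ^ N : A ⟶ A).left η[A].left))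
  haveI : Mono n := IsogLib.mono_kernel _ hK
  have hlift : ∀ {T : Over (Spec (CommRingCat.of k))} (g : T ⟶ A), g ^ N = 1 → ∃ l : T ⟶ K, l ≫ n = g :=
    fun g hg => IsogLib.exists_kernel_lift _ hK g (by rw [MonObj.comp_pow, Category.comp_id, hg])
  have hnN : n ^ N = 1 := by
    have := IsogLib.kernel_comp _ hK
    rwa [MonObj.comp_pow, Category.comp_id] at this
  haveI : IsLocallyArtinian (𝟙_ (Over (Spec (CommRingCat.of k)))).left :=
    inferInstanceAs (IsLocallyArtinian (Spec (CommRingCat.of k)))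
  haveI : IsLocallyArtinian K.left := .of_locallyQuasiFinite K.hom
  haveI : DiscreteTopology ↥K.left := inferInstance
  let S : Set K.left := {z | ∃ x ∈ C, ∃ l : SGA7.pt (K := k) Ω ⟶ K, l ≫ n = x ∧ l.left (IsLocalRing.closedPoint Ω) = z}
  let U : K.left.Opens := ⟨S, isOpen_discrete S⟩
  let H := Over.mk (U.ι ≫ K.hom)
  let j : H ⟶ K := Over.homMk U.ι rfl
  haveI : IsOpenImmersion j.left := inferInstanceAs (IsOpenImmersion U.ι)
  haveI : IsClosedImmersion j.left := IsClosedImmersion.of_isPreimmersion U.ι (isClosed_discrete _)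
  haveI : IsFinite H.hom := inferInstanceAs (IsFinite (j.left ≫ K.hom))
  haveI : Mono j := (Over.forget _).mono_of_mono_map (inferInstanceAs (Mono j.left))
  let i : H ⟶ A := j ≫ n
  haveI : IsClosedImmersion i.left := by
    show IsClosedImmersion (j.left ≫ n.left)
    infer_instance
  have hiN : i ^ N = 1 := by
    show (j ≫ n) ^ N = 1
    rw [← MonObj.comp_pow, hnN, MonObj.comp_one]
  have hliftH : ∀ {T : Over (Spec (CommRingCat.of k))} (g : T ⟶ A), g ^ N = 1 →
      (∀ t : T.left, ∃ a : SGA7.pt (K := k) Ω ⟶ T, a.left (IsLocalRing.closedPoint Ω) = t ∧ a ≫ g ∈ C) →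
      ∃ y : T ⟶ H, y ≫ i = g := fun {T} g hg ht => by
    obtain ⟨l, hl⟩ := hlift g hg
    have hr : Set.range l.left ⊆ Set.range j.left := by
      rintro _ ⟨t, rfl⟩
      obtain ⟨a, rfl, ha⟩ := ht t
      show _ ∈ Set.range U.ι
      rw [Scheme.Opens.range_ι]
      exact ⟨a ≫ g, ha, a ≫ l, by rw [Category.assoc, hl], rfl⟩
    refine ⟨Over.homMk (IsOpenImmersion.lift j.left l.left hr) ?_, ?_⟩
    · rw [← Over.w j, IsOpenImmersion.lift_fac_assoc, Over.w]
    · rw [← hl, ← Category.assoc]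
      congr 1
      exact Over.OverMorphism.ext (IsOpenImmersion.lift_fac _ _ _)
  have hpts : ∀ x : SGA7.pt (K := k) Ω ⟶ A, (∃ y, y ≫ i = x) ↔ x ∈ C := fun x => by
    refine ⟨?_, fun hx => hliftH x (hC hx) fun t => ⟨𝟙 _, ?_, by rwa [Category.id_comp]⟩⟩
    · rintro ⟨y, rfl⟩
      obtain ⟨x', hx', l, hl, hlp⟩ : (y ≫ j).left (IsLocalRing.closedPoint Ω) ∈ S := (y.left (IsLocalRing.closedPoint Ω)).2
      obtain ⟨σ, hσ⟩ := exists_galAct_eq l (y ≫ j) hlp
      have h := hCG σ x' hx'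
      rw [← hl, SGA7.galAct, ← Category.assoc, show SGA7.specAut σ ≫ l = y ≫ j from hσ, Category.assoc] at h
      exact h
    · exact Subsingleton.elim (α := PrimeSpectrum Ω) _ _
  have hone : (1 : 𝟙_ (Over (Spec (CommRingCat.of k))) ⟶ A) ^ N = 1 := _root_.one_pow N
  have hpow : ∀ {T : Over (Spec (CommRingCat.of k))} (a : T ⟶ H), (a ≫ i) ^ N = 1 := fun a =>
    by rw [show a ≫ i = (a ≫ j) ≫ n from (Category.assoc _ _ _).symm, ← MonObj.comp_pow, hnN, MonObj.comp_one]
  obtain ⟨_, hi⟩ := IsogLib.exists_grpObj_of_mono i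
    (hliftH η[A] (by simpa only [MonObj.one_eq_one] using hone) fun t => by
      haveI : IsFinite (𝟙_ (Over (Spec (CommRingCat.of k)))).hom := inferInstanceAs (IsFinite (𝟙 _))
      obtain ⟨a, ha⟩ := exists_pt_over (Ω := Ω) t
      exact ⟨a, ha, by rw [toUnit_unique a (toUnit _)]; exact one_mem C⟩)
    (hliftH ((fst H H ≫ i) * (snd H H ≫ i)) (by
      rw [mul_pow, hpow (fst H H), hpow (snd H H), _root_.one_mul]) fun t => by
      haveI : IsFinite (H ⊗ H).hom := by rw [Over.tensorObj_hom]; infer_instance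
      obtain ⟨a, ha⟩ := exists_pt_over (Ω := Ω) t
      refine ⟨a, ha, ?_⟩
      rw [MonObj.comp_mul]
      exact mul_mem ((hpts _).1 ⟨a ≫ fst H H, Category.assoc _ _ _⟩) ((hpts _).1 ⟨a ≫ snd H H, Category.assoc _ _ _⟩))
    (hliftH i⁻¹ (by rw [inv_pow, hiN, inv_one]) fun t => by
      obtain ⟨a, ha⟩ := exists_pt_over (Ω := Ω) t
      refine ⟨a, ha, ?_⟩
      rw [GrpObj.comp_inv]
      exact inv_mem ((hpts _).1 ⟨_, rfl⟩))
  exact ⟨H, inferInstance, i, hi, inferInstance, inferInstance, hiN, hpts⟩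

/-- the isogeny dividing by a Galois-stable group of geometric torsion points -/
theorem exists_isogeny_of_pts (N : ℕ) (hN : (N : k) ≠ 0) (C : Subgroup (SGA7.pt (K := k) Ω ⟶ A))
    (hC : C ≤ AbDual.torsPts A N (SGA7.pt Ω)) (hCG : ∀ σ : Ω ≃ₐ[k] Ω, ∀ x ∈ C, SGA7.galAct σ x ∈ C) :
    ∃ (Y : Over (Spec (CommRingCat.of k))) (_ : GrpObj Y) (_ : IsCommMonObj Y) (_ : IsProper Y.hom)
      (_ : GeometricallyIntegral Y.hom) (q : A ⟶ Y) (_ : IsMonHom q) (v : Y ⟶ A) (_ : IsMonHom v),
      q ≫ v = 𝟙 A ^ N ∧ v ≫ q = 𝟙 Y ^ N ∧ ∀ x : SGA7.pt (K := k) Ω ⟶ A, x ≫ q = 1 ↔ x ∈ C := by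
  obtain ⟨H, _, i, hi, hic, hHf, hiN, hpts⟩ := exists_subgroup_scheme N hN C hC hCG
  haveI := hi
  haveI := hic
  haveI := hHf
  obtain ⟨Y, _, q, hq, hqf, hqfl, hqs, hYp, hYi, hY⟩ := AVRosati.FinQuot.exists_quotient i
  haveI := hq
  haveI := hqs
  haveI := hYp
  haveI := hYi
  haveI : IsCommMonObj Y := isCommMonObj_of_isProper_of_geometricallyIntegral Y
  haveI : IsMonHom (𝟙 A ^ N : A ⟶ A) := AVDegLib.isMonHom_pow (A := A) N
  obtain ⟨v, hv, hqv⟩ := AVRosati.Factor.exists_factor q (𝟙 A ^ N) (fun T g hg => by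
    obtain ⟨l, hl⟩ := IsogLib.exists_kernel_lift q hY g hg
    rw [← hl, Category.assoc, show i ≫ (𝟙 A ^ N) = 1 by rw [MonObj.comp_pow, Category.comp_id, hiN], MonObj.comp_one])
  haveI := hv
  haveI : IsIntegral Y.left := H23.MaxAbelian.isIntegral_of_geometricallyIntegral
  refine ⟨Y, inferInstance, inferInstance, hYp, hYi, q, hq, v, hv, hqv, ?_, fun x => ?_⟩
  · refine AVRosati.Factor.cancel_surjective q ?_
    rw [← Category.assoc, hqv, MonObj.pow_comp, MonObj.comp_pow, Category.id_comp, Category.comp_id]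
  · rw [← hpts x]
    refine ⟨fun h => IsogLib.exists_kernel_lift q hY x h, ?_⟩
    rintro ⟨y, rfl⟩
    rw [Category.assoc, IsogLib.kernel_comp q hY, MonObj.comp_one]

end Groth.Agent.AVTate

end
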