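import Groth.Agent.AVTate.Lattice

/-!
# Tate's argument in the rational Tate module
-/

set_option autoImplicit false
set_option linter.style.haveILetI false
set_option linter.unusedSectionVars false
set_option backward.isDefEq.respectTransparency false
set_option backward.isDefEq.respectTransparency.types false
set_option synthInstance.maxHeartbeats 400000
set_option maxHeartbeats 1000000

universe u

noncomputable section

open CategoryTheory CategoryTheory.Limits AlgebraicGeometry MonoidalCategory CartesianMonoidalCategory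
open scoped MonObj TensorProduct

attribute [-instance] CategoryTheory.catToReflQuiver

namespace Groth.Agent.AVTate

variable {l : ℕ} [Fact l.Prime]

/-- some power of `l` clears the denominators -/
theorem exists_pow_smul {M : Type*} [AddCommGroup M] [Module ℤ_[l] M] (w : ℚ_[l] ⊗[ℤ_[l]] M) :
    ∃ (m : ℕ) (z : M), ((l : ℚ_[l]) ^ m) • w = (1 : ℚ_[l]) ⊗ₜ z := by
  induction w using TensorProduct.induction_on with
  | zero => exact ⟨0, 0, by simp⟩
  | tmul a z =>
    obtain ⟨m, hm⟩ := pow_unbounded_of_one_lt ‖a‖ (show (1 : ℝ) < l from by exact_mod_cast (Fact.out : l.Prime).one_lt)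
    have ha : ‖(l : ℚ_[l]) ^ m * a‖ ≤ 1 := by
      have hl0 : (0 : ℝ) < (l : ℝ) := by exact_mod_cast (Fact.out : l.Prime).pos
      rw [norm_mul, norm_pow, Padic.norm_p, inv_pow, inv_mul_le_iff₀ (pow_pos hl0 m), _root_.mul_one]
      exact hm.le
    let a' : ℤ_[l] := ⟨_, ha⟩
    refine ⟨m, a' • z, ?_⟩
    rw [TensorProduct.smul_tmul', TensorProduct.tmul_smul, TensorProduct.smul_tmul', smul_eq_mul]
    congr 1
    rw [Algebra.smul_def, _root_.mul_one]
    rfl
  | add x y hx hy =>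
    obtain ⟨m, z, hz⟩ := hx
    obtain ⟨m', z', hz'⟩ := hy
    refine ⟨m + m', ((l : ℤ_[l]) ^ m') • z + ((l : ℤ_[l]) ^ m) • z', ?_⟩
    have h : ∀ (j : ℕ) (t : M), (1 : ℚ_[l]) ⊗ₜ[ℤ_[l]] (((l : ℤ_[l]) ^ j) • t) = ((l : ℚ_[l]) ^ j) • ((1 : ℚ_[l]) ⊗ₜ t) :=
      fun j t => by
        rw [TensorProduct.tmul_smul, TensorProduct.smul_tmul', TensorProduct.smul_tmul', Algebra.smul_def, map_pow,
          map_natCast, smul_eq_mul]
    rw [TensorProduct.tmul_add, h, h, ← hz, ← hz', smul_smul, smul_smul, ← pow_add, ← pow_add, smul_add,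
      Nat.add_comm m' m]

theorem baseChange_mem_span {M : Type*} [AddCommGroup M] [Module ℤ_[l] M] {s : Set (Module.End ℤ_[l] M)}
    {f : Module.End ℤ_[l] M} (hf : f ∈ Submodule.span ℤ_[l] s) :
    f.baseChange ℚ_[l] ∈ Submodule.span ℚ_[l] ((fun g => g.baseChange ℚ_[l]) '' s) := by
  induction hf using Submodule.span_induction with
  | mem g hg => exact Submodule.subset_span ⟨g, hg, rfl⟩
  | zero => rw [LinearMap.baseChange_zero]; exact zero_mem _
  | add g g' _ _ hg hg' => rw [LinearMap.baseChange_add]; exact add_mem hg hg'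
  | smul a g _ hg =>
    rw [LinearMap.baseChange_smul, ← algebraMap_smul ℚ_[l]]
    exact Submodule.smul_mem _ _ hg

variable {k Ω : Type u} [Field k] [Field Ω] [Algebra k Ω]
  (A : Over (Spec (CommRingCat.of k))) [GrpObj A] [IsCommMonObj A] [IsProper A.hom] [GeometricallyIntegral A.hom]

variable (l Ω) in
/-- the span of the endomorphisms of `A` in the endomorphisms of the rational Tate module -/
def endSpan : Submodule ℚ_[l] (Module.End ℚ_[l] (ℚ_[l] ⊗[ℤ_[l]] AbDual.TateMod A l (SGA7.pt (K := k) Ω))) :=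
  Submodule.span ℚ_[l] {ψ | ∃ (f : A ⟶ A) (_ : IsMonHom f),
    ψ = (AbDual.tateMapₗ (l := l) (T := SGA7.pt (K := k) Ω) f).baseChange ℚ_[l]}

variable [IsAlgClosed Ω] [Algebra.IsAlgebraic k Ω] [Normal k Ω]

/-- Galois-stable subspaces are images of endomorphisms -/
theorem exists_range_eq (hl : (l : k) ≠ 0) {J : Type u} [Finite J] (F : J → Over (Spec (CommRingCat.of k)))
    (hF : ∀ (Y : Over (Spec (CommRingCat.of k))) [GrpObj Y] [IsCommMonObj Y] [IsProper Y.hom] [GeometricallyIntegral Y.hom]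
      (q : A ⟶ Y) [IsMonHom q] (v : Y ⟶ A) [IsMonHom v] (m : ℕ),
      q ≫ v = (𝟙 A) ^ (l ^ m) → v ≫ q = (𝟙 Y) ^ (l ^ m) → ∃ i, Nonempty (Y ≅ F i))
    (W : Submodule ℚ_[l] (ℚ_[l] ⊗[ℤ_[l]] AbDual.TateMod A l (SGA7.pt (K := k) Ω)))
    (hW : ∀ τ : Ω ≃ₐ[k] Ω, W.map ((galT A l τ).baseChange ℚ_[l]) ≤ W) :
    ∃ u ∈ endSpan l Ω A, LinearMap.range u = W := by
  let W₀ := (W.restrictScalars ℤ_[l]).comap
    (TensorProduct.mk ℤ_[l] ℚ_[l] (AbDual.TateMod A l (SGA7.pt (K := k) Ω)) 1)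
  obtain ⟨c, f, hf, hfW, hWf⟩ := exists_end_sandwich hl F hF W₀ (fun τ x hx => hW τ ⟨_, hx, LinearMap.baseChange_tmul ..⟩)
  refine ⟨f.baseChange ℚ_[l], Submodule.span_mono ?_ (baseChange_mem_span hf), le_antisymm ?_ fun w hw => ?_⟩
  · rintro _ ⟨_, ⟨g, rfl⟩, rfl⟩
    exact ⟨g.toHom, inferInstance, rfl⟩
  · rintro _ ⟨w, rfl⟩
    obtain ⟨m, z, hz⟩ := exists_pow_smul w
    have h : ((l : ℚ_[l]) ^ m) • f.baseChange ℚ_[l] w ∈ W := by
      rw [← map_smul, hz, LinearMap.baseChange_tmul]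
      exact hfW z
    exact (Submodule.smul_mem_iff _ (pow_ne_zero m (Nat.cast_ne_zero.2 (Fact.out : l.Prime).ne_zero))).1 h
  · obtain ⟨m, z, hz⟩ := exists_pow_smul w
    obtain ⟨x, hx⟩ := hWf z (show (1 : ℚ_[l]) ⊗ₜ z ∈ W from hz ▸ W.smul_mem _ hw)
    have h : ((l : ℚ_[l]) ^ (c + m)) • w ∈ LinearMap.range (f.baseChange ℚ_[l]) := ⟨1 ⊗ₜ x, by
      rw [LinearMap.baseChange_tmul, hx, pow_add, mul_smul, hz, TensorProduct.tmul_smul,
        ← algebraMap_smul ℚ_[l] ((l : ℤ_[l]) ^ c), map_pow, map_natCast]⟩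
    exact (Submodule.smul_mem_iff _ (pow_ne_zero _ (Nat.cast_ne_zero.2 (Fact.out : l.Prime).ne_zero))).1 h

end Groth.Agent.AVTate

end
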